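import Groth.Prelude.Def_NonAbH1
import Mathlib.CategoryTheory.Sites.CoversTop.Basic
import Mathlib.Logic.Small.Basic

/-!
# Sheaves with an action of a sheaf of groups
-/

set_option autoImplicit false

universe w v u

open CategoryTheory Opposite

namespace GrothLib.GSheaf21

variable {C : Type u} [Category.{v} C] {J : GrothendieckTopology C}

/-- Separatedness on a covering sieve. -/
theorem sheaf_ext (F : Sheaf J (Type w)) {U : C} {S : Sieve U} (hS : S ∈ J U) {x y : F.obj.obj (op U)}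
    (h : ∀ (V : C) (f : V ⟶ U), S f → F.obj.map f.op x = F.obj.map f.op y) : x = y :=
  (((isSheaf_iff_isSheaf_of_type J F.obj).1 F.property) S hS).isSeparatedFor.ext
    fun {V} f hf => h V f hf

theorem map_map (F : Sheaf J (Type w)) {U V W : C} (f : V ⟶ U) (g : W ⟶ V) (x : F.obj.obj (op U)) :
    F.obj.map g.op (F.obj.map f.op x) = F.obj.map (g ≫ f).op x := by
  rw [← ConcreteCategory.comp_apply, ← Functor.map_comp]
  rfl

theorem gmap_map (G : Sheaf J GrpCat.{w}) {U V W : C} (f : V ⟶ U) (g : W ⟶ V) (x : G.obj.obj (op U)) :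
    G.obj.map g.op (G.obj.map f.op x) = G.obj.map (g ≫ f).op x := by
  rw [← ConcreteCategory.comp_apply, ← Functor.map_comp]
  rfl

/-- A sheaf of types has the glueing property, as used here. -/
theorem sheaf_glue (F : Sheaf J (Type w)) {U : C} {S : Sieve U} (hS : S ∈ J U)
    (x : ∀ (V : C) (f : V ⟶ U), S f → F.obj.obj (op V))
    (hx : ∀ (V W : C) (f : V ⟶ U) (hf : S f) (g : W ⟶ V),
      F.obj.map g.op (x V f hf) = x W (g ≫ f) (S.downward_closed hf g)) :
    ∃ y : F.obj.obj (op U), ∀ (V : C) (f : V ⟶ U) (hf : S f), F.obj.map f.op y = x V f hf := by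
  let fam : Presieve.FamilyOfElements F.obj S.arrows := fun V f hf => x V f hf
  have hc : fam.Compatible := by
    rw [Presieve.compatible_iff_sieveCompatible]
    intro V W f g hf
    exact (hx V W f hf g).symm
  exact ⟨_, fun V f hf => (((isSheaf_iff_isSheaf_of_type J F.obj).1 F.property) S hS).valid_glue hc f hf⟩

variable {G : Sheaf J GrpCat.{w}}

/-- Restriction commutes with the action. -/
theorem map_smul' (P : NonAbH1.GSheaf G) {U V : C} (f : V ⟶ U) (g : G.obj.obj (op U))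
    (p : P.P.obj.obj (op U)) :
    P.P.obj.map f.op (P.smul g p) = P.smul (G.obj.map f.op g) (P.P.obj.map f.op p) :=
  P.map_smul f.op g p

theorem smul_left_cancel {P : NonAbH1.GSheaf G} (hP : P.IsPseudoTorsor) {U : Cᵒᵖ} {g g' : G.obj.obj U}
    {p : P.P.obj.obj U} (h : P.smul g p = P.smul g' p) : g = g' :=
  (hP U p _).unique h rfl

/-- An equivariant morphism of torsors is an isomorphism. -/
theorem isIso_hom {P Q : NonAbH1.GSheaf G} (hP : P.IsTorsor) (hQ : Q.IsPseudoTorsor) (f : P ⟶ Q) :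
    IsIso f := by
  have hinj : ∀ (U : Cᵒᵖ), Function.Injective (f.hom.hom.app U) := fun U p p' h => by
    obtain ⟨g, hg, -⟩ := hP.1 U p p'
    have h1 := f.map_smul g p
    rw [hg, ← h] at h1
    rw [← hg, smul_left_cancel hQ (h1.symm.trans (Q.one_smul _).symm), P.one_smul]
  have hnat : ∀ {U V : C} (φ : V ⟶ U) (p : P.P.obj.obj (op U)),
      f.hom.hom.app (op V) (P.P.obj.map φ.op p) = Q.P.obj.map φ.op (f.hom.hom.app (op U) p) :=
    fun φ p => congrArg (fun k => k p) (f.hom.hom.naturality φ.op)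
  have hsurj : ∀ (U : Cᵒᵖ), Function.Surjective (f.hom.hom.app U) := fun ⟨U⟩ q => by
    obtain ⟨S, hS, hne⟩ := hP.2 U
    have hloc : ∀ (V : C) (φ : V ⟶ U), S φ → ∃ p, f.hom.hom.app (op V) p = Q.P.obj.map φ.op q :=
      fun V φ hφ => by
      obtain ⟨p⟩ := hne φ hφ
      obtain ⟨g, hg, -⟩ := hQ (op V) (f.hom.hom.app (op V) p) (Q.P.obj.map φ.op q)
      exact ⟨P.smul g p, (f.map_smul g p).trans hg⟩
    choose p hp using hloc
    obtain ⟨y, hy⟩ := sheaf_glue P.P hS p fun V W φ hφ ψ => hinj _ (by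
      rw [hnat, hp, hp, map_map])
    exact ⟨y, sheaf_ext Q.P hS fun V φ hφ => by rw [← hnat, hy V φ hφ, hp]⟩
  have : IsIso f.hom.hom := by
    have : ∀ U, IsIso (f.hom.hom.app U) := fun U => (isIso_iff_bijective _).mpr ⟨hinj U, hsurj U⟩
    exact NatIso.isIso_of_isIso_app _
  have : IsIso f.hom := by
    have : IsIso ((sheafToPresheaf J (Type w)).map f.hom) := this
    exact isIso_of_reflects_iso f.hom (sheafToPresheaf J (Type w))
  let g : Q ⟶ P := ⟨inv f.hom, fun {U} a q => hinj U (by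
    have e : ∀ x, f.hom.hom.app U ((inv f.hom).hom.app U x) = x := fun x =>
      congrArg (fun k : Q.P ⟶ Q.P => k.hom.app U x) (IsIso.inv_hom_id f.hom)
    rw [f.map_smul, e, e])⟩
  exact ⟨g, NonAbH1.GSheaf.hom_ext (IsIso.hom_inv_id f.hom), NonAbH1.GSheaf.hom_ext (IsIso.inv_hom_id f.hom)⟩

variable {I : Type*} {U : I → C}

/-- The cocycle cut out by sections. -/
theorem exists_isCocycleOf {P : NonAbH1.GSheaf G} (hP : P.IsPseudoTorsor)
    (s : ∀ i, P.P.obj.obj (op (U i))) :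
    ∃ γ : PresheafOfGroups.OneCocycle G.obj U, P.IsCocycleOf U s γ := by
  choose e he he' using fun (i j : I) (T : C) (a : T ⟶ U i) (b : T ⟶ U j) =>
    hP (op T) (P.P.obj.map b.op (s j)) (P.P.obj.map a.op (s i))
  refine ⟨{ ev := fun i j T a b => e i j T a b, ev_precomp := fun i j T T' φ a b => ?_,
            ev_trans := fun i j k T a b c => ?_ }, fun i j T a b => he i j T a b⟩
  · refine he' i j _ (φ ≫ a) (φ ≫ b) _ ?_
    show P.smul (G.obj.map φ.op (e i j T' a b)) _ = _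
    rw [← map_map P.P b φ, ← map_map P.P a φ, ← map_smul', he]
  · refine he' i k T a c _ ?_
    show P.smul (e i j T a b * e j k T b c) _ = _
    rw [P.mul_smul, he, he]

theorem isCocycleOf_change {P : NonAbH1.GSheaf G} {s s' : ∀ i, P.P.obj.obj (op (U i))}
    (hP : P.IsPseudoTorsor) {γ γ' : PresheafOfGroups.OneCocycle G.obj U} (h : P.IsCocycleOf U s γ)
    (h' : P.IsCocycleOf U s' γ') (α : PresheafOfGroups.ZeroCochain G.obj U)
    (hα : ∀ i, P.smul (α i) (s i) = s' i) :
    PresheafOfGroups.OneCohomologyRelation γ.toOneCochain γ'.toOneCochain α := fun i j T a b => by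
  refine smul_left_cancel hP (p := P.P.obj.map b.op (s j)) ?_
  rw [P.mul_smul, P.mul_smul, h i j a b, ← map_smul', ← map_smul', hα, hα, h' i j a b]

theorem class_eq_of_relation {γ γ' : PresheafOfGroups.OneCocycle G.obj U}
    (h : γ.IsCohomologous γ') : γ.class = γ'.class := Quot.sound h

theorem isCohomologous_of_class_eq {γ γ' : PresheafOfGroups.OneCocycle G.obj U}
    (h : γ.class = γ'.class) : γ.IsCohomologous γ' :=
  ((PresheafOfGroups.OneCocycle.equivalence_isCohomologous G.obj U).quot_mk_eq_iff γ γ').mp h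

/-- Two torsors cutting out the same cocycle are isomorphic. -/
theorem nonempty_iso_of_isCocycleOf (hU : J.CoversTop U) {P Q : NonAbH1.GSheaf G} (hP : P.IsTorsor)
    (hQ : Q.IsPseudoTorsor) {s : ∀ i, P.P.obj.obj (op (U i))} {t : ∀ i, Q.P.obj.obj (op (U i))}
    {γ : PresheafOfGroups.OneCocycle G.obj U} (hs : P.IsCocycleOf U s γ) (ht : Q.IsCocycleOf U t γ) :
    Nonempty (P ≅ Q) := by
  have hd : ∀ (X V : C) (φ : V ⟶ X) (i : I) (a : V ⟶ U i) (p : P.P.obj.obj (op X)),
      ∃! g : G.obj.obj (op V), P.smul g (P.P.obj.map a.op (s i)) = P.P.obj.map φ.op p :=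
    fun X V φ i a p => hP.1 _ _ _
  choose d hd hd' using hd
  let val : ∀ (X : C) (p : P.P.obj.obj (op X)) (V : C) (φ : V ⟶ X) (i : I) (a : V ⟶ U i),
      Q.P.obj.obj (op V) := fun X p V φ i a => Q.smul (d X V φ i a p) (Q.P.obj.map a.op (t i))
  have hind : ∀ X p V φ i a j b, val X p V φ i a = val X p V φ j b := fun X p V φ i a j b => by
    have e : d X V φ j b p = d X V φ i a p * γ.ev i j a b := (hd' X V φ j b p _ (by
      show P.smul (d X V φ i a p * γ.ev i j a b) _ = _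
      rw [P.mul_smul, hs i j a b, hd])).symm
    show Q.smul _ _ = Q.smul _ _
    rw [e, Q.mul_smul, ht i j a b]
  have hnat : ∀ X p V φ i a (W : C) (ψ : W ⟶ V),
      Q.P.obj.map ψ.op (val X p V φ i a) = val X p W (ψ ≫ φ) i (ψ ≫ a) := fun X p V φ i a W ψ => by
    show Q.P.obj.map ψ.op (Q.smul _ _) = _
    rw [map_smul', map_map]
    congr 1
    refine hd' X W (ψ ≫ φ) i (ψ ≫ a) p _ ?_
    show P.smul _ _ = _
    rw [← map_map P.P a ψ, ← map_smul', hd, map_map]
  have hglue : ∀ X (p : P.P.obj.obj (op X)), ∃ q : Q.P.obj.obj (op X),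
      ∀ V (φ : V ⟶ X) i (a : V ⟶ U i), Q.P.obj.map φ.op q = val X p V φ i a := fun X p => by
    obtain ⟨q, hq⟩ := sheaf_glue Q.P (hU X) (fun V φ hφ => val X p V φ hφ.choose hφ.choose_spec.some)
      fun V W φ hφ ψ => by rw [hnat]; exact hind _ _ _ _ _ _ _ _
    exact ⟨q, fun V φ i a => (hq V φ ⟨i, ⟨a⟩⟩).trans (hind _ _ _ _ _ _ _ _)⟩
  choose F hF using hglue
  let η : P.P.obj ⟶ Q.P.obj :=
    { app := fun X => TypeCat.ofHom (F X.unop)
      naturality := fun {X Y} f => by
        ext p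
        refine sheaf_ext Q.P (hU Y.unop) fun V φ hφ => ?_
        obtain ⟨i, ⟨a⟩⟩ := hφ
        refine (hF _ (P.P.obj.map f p) V φ i a).trans (Eq.trans ?_ (Eq.trans
          (hF _ p V (φ ≫ f.unop) i a).symm (map_map Q.P f.unop φ (F _ p)).symm))
        show Q.smul _ _ = Q.smul _ _
        congr 1
        refine hd' _ _ _ _ _ _ _ ?_
        show P.smul _ _ = _
        rw [hd]
        exact map_map P.P f.unop φ p }
  let f : P ⟶ Q := ⟨⟨η⟩, fun {X} g p => by
    refine sheaf_ext Q.P (hU X.unop) fun V φ hφ => ?_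
    obtain ⟨i, ⟨a⟩⟩ := hφ
    show Q.P.obj.map φ.op (F _ (P.smul g p)) = Q.P.obj.map φ.op (Q.smul g (F _ p))
    rw [hF _ _ V φ i a, map_smul', hF _ _ V φ i a]
    show Q.smul _ _ = Q.smul _ (Q.smul _ _)
    rw [← Q.mul_smul]
    congr 1
    refine (hd' _ _ _ _ _ _ _ ?_).symm
    show P.smul _ _ = _
    rw [P.mul_smul, hd, map_smul']⟩
  have := isIso_hom hP hQ f
  exact ⟨asIso f⟩

/-- A pseudo-torsor with sections over a covering family is a torsor. -/
theorem isTorsor_of_trivialisedBy (hU : J.CoversTop U) {P : NonAbH1.GSheaf G} (hP : P.IsPseudoTorsor)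
    (h : P.TrivialisedBy U) : P.IsTorsor :=
  ⟨hP, fun X => ⟨_, hU X, fun V f hf => by
    obtain ⟨i, ⟨a⟩⟩ := hf
    exact (h i).map (P.P.obj.map a.op)⟩⟩

section Twist

variable (γ : PresheafOfGroups.OneCocycle G.obj U)

/-- Coordinates of a section of the torsor of a cocycle. -/
def Coord (X : Cᵒᵖ) :=
  { x : ∀ (V : C) (_ : V ⟶ X.unop) (i : I) (_ : V ⟶ U i), G.obj.obj (op V) //
    (∀ (V W : C) (ψ : W ⟶ V) (φ : V ⟶ X.unop) (i : I) (a : V ⟶ U i),
      G.obj.map ψ.op (x V φ i a) = x W (ψ ≫ φ) i (ψ ≫ a)) ∧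
    ∀ (V : C) (φ : V ⟶ X.unop) (i j : I) (a : V ⟶ U i) (b : V ⟶ U j),
      x V φ i a * γ.ev i j a b = x V φ j b }

/-- The `G`-action on coordinates. -/
def Coord.smul {X : Cᵒᵖ} (g : G.obj.obj X) (x : Coord γ X) : Coord γ X :=
  ⟨fun V φ i a => G.obj.map φ.op g * x.1 V φ i a,
    fun V W ψ φ i a => by rw [map_mul, x.2.1, gmap_map G φ ψ g],
    fun V φ i j a b => by rw [mul_assoc, x.2.2]⟩

/-- Restriction of coordinates. -/
def Coord.res {X Y : Cᵒᵖ} (f : X ⟶ Y) (x : Coord γ X) : Coord γ Y :=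
  ⟨fun V φ i a => x.1 V (φ ≫ f.unop) i a,
    fun V W ψ φ i a => (x.2.1 V W ψ (φ ≫ f.unop) i a).trans (by simp only [Category.assoc]),
    fun V φ i j a b => x.2.2 V _ i j a b⟩

theorem Coord.ext {X : Cᵒᵖ} {x y : Coord γ X} (h : ∀ V φ i a, x.1 V φ i a = y.1 V φ i a) : x = y :=
  Subtype.ext (funext fun V => funext fun φ => funext fun i => funext fun a => h V φ i a)

theorem existsUnique_smul [J.HasSheafCompose (forget GrpCat.{w})] (hU : J.CoversTop U) {X : Cᵒᵖ}
    (x y : Coord γ X) : ∃! g : G.obj.obj X, Coord.smul γ g x = y := by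
  let F : Sheaf J (Type w) := NonAbH1.GSheaf.uSh G
  have hval : ∀ (V : C) (φ : V ⟶ X.unop) (i j : I) (a : V ⟶ U i) (b : V ⟶ U j),
      y.1 V φ i a * (x.1 V φ i a)⁻¹ = y.1 V φ j b * (x.1 V φ j b)⁻¹ := fun V φ i j a b => by
    rw [← x.2.2 V φ i j a b, ← y.2.2 V φ i j a b, mul_inv_rev, mul_assoc, mul_inv_cancel_left]
  obtain ⟨g, hg⟩ := sheaf_glue F (hU X.unop)
    (fun V φ hφ => (y.1 V φ hφ.choose hφ.choose_spec.some * (x.1 V φ hφ.choose hφ.choose_spec.some)⁻¹ :
      G.obj.obj (op V)))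
    fun V W φ hφ ψ => by
      show G.obj.map ψ.op (_ * _⁻¹) = _
      rw [map_mul, map_inv, x.2.1, y.2.1]
      exact hval _ _ _ _ _ _
  have hg' : ∀ V φ i a, G.obj.map φ.op (g : G.obj.obj X) = y.1 V φ i a * (x.1 V φ i a)⁻¹ := fun V φ i a =>
    (hg V φ ⟨i, ⟨a⟩⟩).trans (hval _ _ _ _ _ _)
  refine ⟨g, Coord.ext γ fun V φ i a => ?_, fun g' h => sheaf_ext F (hU X.unop) fun V φ hφ => ?_⟩
  · show G.obj.map φ.op (g : G.obj.obj X) * _ = _
    rw [hg', inv_mul_cancel_right]
  · obtain ⟨i, ⟨a⟩⟩ := hφ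
    show G.obj.map φ.op g' = G.obj.map φ.op (g : G.obj.obj X)
    rw [hg' V φ i a, eq_mul_inv_iff_mul_eq]
    exact congrArg (fun z : Coord γ X => z.1 V φ i a) h

theorem small_coord [J.HasSheafCompose (forget GrpCat.{w})] (hU : J.CoversTop U) (X : Cᵒᵖ) :
    Small.{w} (Coord γ X) := by
  rcases isEmpty_or_nonempty (Coord γ X) with h | ⟨⟨x⟩⟩
  · exact small_of_surjective (α := PEmpty.{w + 1}) (f := PEmpty.elim) isEmptyElim
  · exact small_of_surjective (f := fun g => Coord.smul γ g x) fun y => (existsUnique_smul γ hU x y).exists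

/-- The torsor of a cocycle. -/
theorem exists_torsor [J.HasSheafCompose (forget GrpCat.{w})] (hU : J.CoversTop U) :
    ∃ (P : NonAbH1.Torsor G) (s : ∀ i, P.P.obj.obj (op (U i))), P.IsCocycleOf U s γ := by
  have := small_coord γ hU
  let e : ∀ X, Coord γ X ≃ Shrink.{w} (Coord γ X) := fun X => equivShrink _
  let Pp : Cᵒᵖ ⥤ Type w :=
    { obj := fun X => Shrink.{w} (Coord γ X)
      map := fun {X Y} f => TypeCat.ofHom fun x => e Y (Coord.res γ f ((e X).symm x))
      map_id := fun X => by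
        refine ConcreteCategory.hom_ext _ _ fun x => ?_
        show e X (Coord.res γ (𝟙 X) ((e X).symm x)) = x
        rw [show Coord.res γ (𝟙 X) ((e X).symm x) = (e X).symm x from
          Coord.ext γ fun V φ i a => by simp [Coord.res], Equiv.apply_symm_apply]
      map_comp := fun {X Y Z} f g => by
        refine ConcreteCategory.hom_ext _ _ fun x => ?_
        show e Z _ = e Z (Coord.res γ g ((e Y).symm (e Y _)))
        rw [Equiv.symm_apply_apply]
        exact congrArg (e Z) (Coord.ext γ fun V φ i a => by simp [Coord.res, Category.assoc]) }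
  have hsheaf : Presheaf.IsSheaf J Pp := by
    rw [isSheaf_iff_isSheaf_of_type]
    intro X S hS fam hc
    have hc' := (Presieve.compatible_iff_sieveCompatible fam).mp hc
    let c : ∀ (V : C) (f : V ⟶ X) (_ : S f), Coord γ (op V) := fun V f hf => (e _).symm (fam f hf)
    have hcc : ∀ (V W : C) (f : V ⟶ X) (hf : S f) (g : W ⟶ V) (Z : C) (φ : Z ⟶ W) i (a : Z ⟶ U i),
        (c W (g ≫ f) (S.downward_closed hf g)).1 Z φ i a = (c V f hf).1 Z (φ ≫ g) i a :=
      fun V W f hf g Z φ i a => by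
      show ((e _).symm (fam (g ≫ f) _)).1 Z φ i a = _
      rw [hc' f g hf]
      show ((e _).symm (e _ _)).1 Z φ i a = _
      rw [Equiv.symm_apply_apply]
      rfl
    let F : Sheaf J (Type w) := NonAbH1.GSheaf.uSh G
    have hgl : ∀ (V : C) (φ : V ⟶ X) (i : I) (a : V ⟶ U i), ∃! z : G.obj.obj (op V),
        ∀ (W : C) (ψ : W ⟶ V) (h : S (ψ ≫ φ)),
          G.obj.map ψ.op z = (c W (ψ ≫ φ) h).1 W (𝟙 W) i (ψ ≫ a) := fun V φ i a => by
      obtain ⟨z, hz⟩ := sheaf_glue F (J.pullback_stable φ hS)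
        (fun W ψ h => ((c W (ψ ≫ φ) h).1 W (𝟙 W) i (ψ ≫ a) : G.obj.obj (op W)))
        fun W W' ψ h χ => by
          show G.obj.map χ.op _ = (c W' ((χ ≫ ψ) ≫ φ) _).1 W' (𝟙 W') i ((χ ≫ ψ) ≫ a)
          rw [(c W (ψ ≫ φ) h).2.1]
          have e1 := hcc W W' (ψ ≫ φ) h χ W' (𝟙 W') i ((χ ≫ ψ) ≫ a)
          simp only [Category.assoc, Category.id_comp, Category.comp_id] at e1 ⊢
          exact e1.symm
      exact ⟨z, fun W ψ h => hz W ψ h, fun z' hz' => sheaf_ext F (J.pullback_stable φ hS)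
        fun W ψ h => (hz' W ψ h).trans (hz W ψ h).symm⟩
    choose z hz hz' using hgl
    let y : Coord γ (op X) := ⟨fun V φ i a => z V φ i a,
      fun V W ψ φ i a => hz' W (ψ ≫ φ) i (ψ ≫ a) _ fun W' χ h => by
        rw [gmap_map G ψ χ, hz V φ i a W' (χ ≫ ψ) ((Category.assoc χ ψ φ).symm ▸ h)]
        simp only [Category.assoc],
      fun V φ i j a b => hz' V φ j b _ fun W ψ h => by
        rw [map_mul, hz V φ i a W ψ h, γ.ev_precomp i j ψ a b]
        exact (c W (ψ ≫ φ) h).2.2 W (𝟙 W) i j _ _⟩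
    refine ⟨e _ y, fun V f hf => (e _).symm.injective ?_, fun y' hy' => (e _).symm.injective ?_⟩
    · show (e _).symm (e _ (Coord.res γ f.op ((e _).symm (e _ y)))) = c V f hf
      rw [Equiv.symm_apply_apply, Equiv.symm_apply_apply]
      refine Coord.ext γ fun W φ i a => ?_
      show z W (φ ≫ f) i a = _
      refine (hz' W (φ ≫ f) i a _ fun W' ψ h => ?_).symm
      have e1 := hcc V W' f hf (ψ ≫ φ) W' (𝟙 W') i (ψ ≫ a)
      rw [(c V f hf).2.1]
      simp only [Category.assoc, Category.id_comp] at e1 ⊢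
      exact e1.symm
    · rw [Equiv.symm_apply_apply]
      refine Coord.ext γ fun V φ i a => hz' V φ i a _ fun W ψ h => ?_
      have e1 : (c W (ψ ≫ φ) h) = Coord.res γ (ψ ≫ φ).op ((e _).symm y') := by
        have := congrArg (e (op W)).symm (hy' (ψ ≫ φ) h)
        exact this.symm.trans ((e _).symm_apply_apply _)
      rw [e1, ((e _).symm y').2.1]
      simp [Coord.res]
  let P : NonAbH1.GSheaf G :=
    { P := ⟨Pp, hsheaf⟩
      smul := fun {X} g x => e X (Coord.smul γ g ((e X).symm x))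
      one_smul := fun {X} x => by
        rw [show Coord.smul γ 1 ((e X).symm x) = (e X).symm x from
          Coord.ext γ fun V φ i a => by simp [Coord.smul], Equiv.apply_symm_apply]
      mul_smul := fun {X} g h x => by
        rw [Equiv.symm_apply_apply]
        exact congrArg (e X) (Coord.ext γ fun V φ i a => by simp [Coord.smul, map_mul, mul_assoc])
      map_smul := fun {X Y} f g x => by
        show e Y (Coord.res γ f ((e X).symm (e X _))) = e Y (Coord.smul γ _ ((e Y).symm (e Y _)))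
        rw [Equiv.symm_apply_apply, Equiv.symm_apply_apply]
        refine congrArg (e Y) (Coord.ext γ fun V φ i a => ?_)
        simp only [Coord.res, Coord.smul]
        exact congrArg (· * _) (gmap_map G f.unop φ g).symm }
  have hps : P.IsPseudoTorsor := fun X p q => by
    obtain ⟨g, hg, hu⟩ := existsUnique_smul γ hU ((e X).symm p) ((e X).symm q)
    exact ⟨g, (e X).symm.injective (((e X).symm_apply_apply _).trans hg),
      fun g' h => hu g' (((e X).symm_apply_apply _).symm.trans (congrArg (e X).symm h))⟩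
  let s : ∀ i, P.P.obj.obj (op (U i)) := fun i => e _ ⟨fun V φ j b => γ.ev i j φ b,
    fun V W ψ φ j b => γ.ev_precomp i j ψ φ b, fun V φ j l b c => γ.ev_trans i j l φ b c⟩
  refine ⟨⟨P, isTorsor_of_trivialisedBy hU hps fun i => ⟨s i⟩⟩, s, fun i j T a b => ?_⟩
  have hs : ∀ i, (e _).symm (s i) = (⟨fun V φ j b => γ.ev i j φ b,
      fun V W ψ φ j b => γ.ev_precomp i j ψ φ b,
      fun V φ j l b c => γ.ev_trans i j l φ b c⟩ : Coord γ (op (U i))) := fun i => (e _).symm_apply_apply _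
  show e (op T) (Coord.smul γ (γ.ev i j a b) ((e (op T)).symm (e (op T) (Coord.res γ b.op ((e _).symm (s j)))))) =
    e (op T) (Coord.res γ a.op ((e _).symm (s i)))
  rw [Equiv.symm_apply_apply, hs, hs]
  refine congrArg (e (op T)) (Coord.ext γ fun V φ l c => ?_)
  show G.obj.map φ.op (γ.ev i j a b) * γ.ev j l (φ ≫ b) c = γ.ev i l (φ ≫ a) c
  rw [γ.ev_precomp i j φ a b, γ.ev_trans]

end Twist

end GrothLib.GSheaf21
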