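import Groth.Agent.Lib.GSheaf21.Basic

/-!
# The boundary map of non-abelian cohomology
-/

set_option autoImplicit false
set_option backward.isDefEq.respectTransparency false

universe w v u

open CategoryTheory Opposite NonAbH1.GSheaf

namespace GrothLib.GSheaf21

variable {C : Type u} [Category.{v} C] {J : GrothendieckTopology C} [J.HasSheafCompose (forget GrpCat.{w})]
  {F G : Sheaf J GrpCat.{w}} {u : F ⟶ G} {Q : NonAbH1.GSheaf G} {π : NonAbH1.GSheaf.trivial G ⟶ Q}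

theorem pi_mul {X : Cᵒᵖ} (g h : G.obj.obj X) :
    π.hom.hom.app X (ofGrp (g * h)) = Q.smul g (π.hom.hom.app X (ofGrp h)) :=
  π.map_smul g (ofGrp h)

theorem pi_nat {X Y : Cᵒᵖ} (φ : X ⟶ Y) (g : G.obj.obj X) :
    π.hom.hom.app Y (ofGrp (G.obj.map φ g)) = Q.P.obj.map φ (π.hom.hom.app X (ofGrp g)) :=
  congrArg (fun k => k (ofGrp g)) (π.hom.hom.naturality φ)

theorem u_nat {X Y : Cᵒᵖ} (φ : X ⟶ Y) (f : F.obj.obj X) :
    G.obj.map φ (u.hom.app X f) = u.hom.app Y (F.obj.map φ f) :=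
  (congrArg (fun k => k f) (u.hom.naturality φ)).symm

theorem emb_nat {T : Sheaf J (Type w)} (ι : T ⟶ uSh G) {X Y : Cᵒᵖ} (φ : X ⟶ Y) (t : T.obj.obj X) :
    toGrp (ι.hom.app Y (T.obj.map φ t)) = G.obj.map φ (toGrp (ι.hom.app X t)) :=
  congrArg (fun k => k t) (ι.hom.naturality φ)

/-- Any sheaf of liftings is a torsor. -/
theorem isTorsor_of_isFibreOver (hu : ∀ X, Function.Injective (u.hom.app X))
    (hQ : IsQuotientBy u π) {c : Q.P.obj.sections} {T : NonAbH1.GSheaf F} (hT : IsFibreOver u π c T) :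
    T.IsTorsor := by
  obtain ⟨ι, hinj, himg, hsmul⟩ := hT
  refine ⟨fun X t t' => ?_, fun U => ?_⟩
  · obtain ⟨f, hf⟩ := (hQ.1 X (toGrp (ι.hom.app X t)) (toGrp (ι.hom.app X t'))).mp
      (((himg X _).mp ⟨t, rfl⟩).trans ((himg X _).mp ⟨t', rfl⟩).symm)
    refine ⟨f⁻¹, hinj X ?_, fun f' hf' => ?_⟩
    · show toGrp (ι.hom.app X (T.smul f⁻¹ t)) = toGrp (ι.hom.app X t')
      rw [hsmul, hf, map_inv, inv_inv]
    · have h1 := hsmul X f' t
      dsimp only at hf'
      rw [hf', hf, ← map_inv] at h1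
      rw [hu X (mul_left_cancel h1), inv_inv]
  · obtain ⟨S, hS, hlift⟩ := hQ.2 U (c.1 (op U))
    refine ⟨S, hS, fun V a ha => ?_⟩
    obtain ⟨g, hg⟩ := hlift a ha
    rw [c.2 a.op] at hg
    obtain ⟨t, -⟩ := (himg (op V) g).mpr hg
    exact ⟨t⟩

/-- The sheaf of liftings. -/
theorem exists_isFibreOver (hQ : IsQuotientBy u π) (c : Q.P.obj.sections) :
    ∃ T : NonAbH1.GSheaf F, IsFibreOver u π c T := by
  let Pp : Cᵒᵖ ⥤ Type w :=
    { obj := fun X => { g : G.obj.obj X // π.hom.hom.app X (ofGrp g) = c.1 X }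
      map := fun {X Y} φ => TypeCat.ofHom fun g => ⟨G.obj.map φ g.1, by rw [pi_nat, g.2, c.2 φ]⟩
      map_id := fun X => ConcreteCategory.hom_ext _ _ fun g => Subtype.ext (by
        show G.obj.map (𝟙 X) g.1 = g.1
        rw [CategoryTheory.Functor.map_id]; rfl)
      map_comp := fun {X Y Z} φ ψ => ConcreteCategory.hom_ext _ _ fun g => Subtype.ext (by
        show G.obj.map (φ ≫ ψ) g.1 = G.obj.map ψ (G.obj.map φ g.1)
        rw [Functor.map_comp]; rfl) }
  have hsheaf : Presheaf.IsSheaf J Pp := by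
    rw [isSheaf_iff_isSheaf_of_type]
    intro X S hS fam hc
    have hc' := (Presieve.compatible_iff_sieveCompatible fam).mp hc
    obtain ⟨y, hy⟩ := sheaf_glue (uSh G) hS (fun V f hf => ((fam f hf).1 : G.obj.obj (op V)))
      fun V W f hf g => (congrArg Subtype.val (hc' f g hf)).symm
    have hy' : π.hom.hom.app (op X) (ofGrp (y : G.obj.obj (op X))) = c.1 (op X) :=
      sheaf_ext Q.P hS fun V f hf => by
        rw [← pi_nat, show G.obj.map f.op (y : G.obj.obj (op X)) = (fam f hf).1 from hy V f hf,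
          (fam f hf).2, c.2 f.op]
    exact ⟨⟨y, hy'⟩, fun V f hf => Subtype.ext (hy V f hf), fun z hz => Subtype.ext
      (sheaf_ext (uSh G) hS fun V f hf => (congrArg Subtype.val (hz f hf)).trans (hy V f hf).symm)⟩
  let T : NonAbH1.GSheaf F :=
    { P := ⟨Pp, hsheaf⟩
      smul := fun {X} f g => ⟨g.1 * (u.hom.app X f)⁻¹,
        ((hQ.1 X g.1 _).mpr ⟨f⁻¹, by rw [map_inv]⟩).symm.trans g.2⟩
      one_smul := fun g => Subtype.ext (by simp)
      mul_smul := fun f f' g => Subtype.ext (by simp [mul_assoc])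
      map_smul := fun φ f g => Subtype.ext (by
        show G.obj.map φ (g.1 * (u.hom.app _ f)⁻¹) = G.obj.map φ g.1 * (u.hom.app _ (F.obj.map φ f))⁻¹
        rw [map_mul, map_inv, u_nat]) }
  refine ⟨T, ⟨{ app := fun X => TypeCat.ofHom fun g => ofGrp g.1, naturality := fun X Y φ => rfl }⟩,
    fun X g g' h => Subtype.ext h, fun X g => ⟨?_, fun h => ⟨⟨g, h⟩, rfl⟩⟩, fun X f t => rfl⟩
  rintro ⟨t, rfl⟩
  exact t.2

theorem exists_hom_of_image {T T' : NonAbH1.GSheaf F} (ι : T.P ⟶ uSh G) (ι' : T'.P ⟶ uSh G)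
    (hinj : ∀ X, Function.Injective (ι'.hom.app X))
    (hs : ∀ X f t, toGrp (ι.hom.app X (T.smul f t)) = toGrp (ι.hom.app X t) * (u.hom.app X f)⁻¹)
    (hs' : ∀ X f t, toGrp (ι'.hom.app X (T'.smul f t)) = toGrp (ι'.hom.app X t) * (u.hom.app X f)⁻¹)
    (g : (uSh G).obj.sections)
    (himg : ∀ X t, ∃ t', toGrp (ι'.hom.app X t') = toGrp (g.1 X) * toGrp (ι.hom.app X t)) :
    Nonempty (T ⟶ T') := by
  choose η hη using himg
  refine ⟨⟨⟨{ app := fun X => TypeCat.ofHom (η X),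
              naturality := fun X Y φ => ConcreteCategory.hom_ext _ _ fun t => hinj Y ?_ }⟩,
    fun {X} f t => hinj X ?_⟩⟩
  · show toGrp (ι'.hom.app Y (η Y (T.P.obj.map φ t))) = toGrp (ι'.hom.app Y (T'.P.obj.map φ (η X t)))
    rw [hη, emb_nat, emb_nat, hη, map_mul]
    exact congrArg (· * _) (g.2 φ).symm
  · show toGrp (ι'.hom.app X (η X (T.smul f t))) = toGrp (ι'.hom.app X (T'.smul f (η X t)))
    rw [hη, hs, hs', hη, mul_assoc]

theorem nonempty_iso_of_isFibreOver_translate (hu : ∀ X, Function.Injective (u.hom.app X))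
    (hQ : IsQuotientBy u π) {c c' : Q.P.obj.sections} {T T' : NonAbH1.GSheaf F}
    (hT : IsFibreOver u π c T) (hT' : IsFibreOver u π c' T') (g : (uSh G).obj.sections)
    (hg : ∀ X, Q.smul (toGrp (g.1 X)) (c.1 X) = c'.1 X) : Nonempty (T ≅ T') := by
  have h1 := isTorsor_of_isFibreOver hu hQ hT
  have h2 := isTorsor_of_isFibreOver hu hQ hT'
  obtain ⟨ι, -, himg, hs⟩ := hT
  obtain ⟨ι', hinj', himg', hs'⟩ := hT'
  obtain ⟨f⟩ := exists_hom_of_image ι ι' hinj' hs hs' g fun X t => (himg' X _).mpr (by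
    rw [pi_mul, (himg X _).mp ⟨t, rfl⟩, hg])
  have := isIso_hom h1 h2.1 f
  exact ⟨asIso f⟩

theorem nonempty_iso_of_isFibreOver (hu : ∀ X, Function.Injective (u.hom.app X))
    (hQ : IsQuotientBy u π) {c : Q.P.obj.sections} {T T' : NonAbH1.GSheaf F}
    (hT : IsFibreOver u π c T) (hT' : IsFibreOver u π c T') : Nonempty (T ≅ T') :=
  nonempty_iso_of_isFibreOver_translate hu hQ hT hT'
    ⟨fun X => ofGrp (1 : G.obj.obj X), fun φ => map_one (G.obj.map φ).hom⟩ fun X => Q.one_smul _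

theorem exists_translate_of_iso (hu : ∀ X, Function.Injective (u.hom.app X))
    (hQ : IsQuotientBy u π) {c c' : Q.P.obj.sections} {T T' : NonAbH1.GSheaf F}
    (hT : IsFibreOver u π c T) (hT' : IsFibreOver u π c' T') (e : T ⟶ T') :
    ∃ g : (uSh G).obj.sections, ∀ X, Q.smul (toGrp (g.1 X)) (c.1 X) = c'.1 X := by
  have htor := isTorsor_of_isFibreOver hu hQ hT
  obtain ⟨ι, -, himg, hs⟩ := hT
  obtain ⟨ι', -, himg', hs'⟩ := hT'
  let val : ∀ (X : Cᵒᵖ) (t : T.P.obj.obj X), G.obj.obj X := fun X t =>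
    toGrp (ι'.hom.app X (e.hom.hom.app X t)) * (toGrp (ι.hom.app X t))⁻¹
  have hval : ∀ X t t', val X t = val X t' := fun X t t' => by
    obtain ⟨f, rfl, -⟩ := htor.1 X t t'
    show _ = toGrp (ι'.hom.app X (e.hom.hom.app X (T.smul f t))) * _
    rw [e.map_smul, hs', hs]
    simp [mul_assoc]
    rfl
  have hvnat : ∀ {X Y : Cᵒᵖ} (φ : X ⟶ Y) t, G.obj.map φ (val X t) = val Y (T.P.obj.map φ t) := fun {X Y} φ t => by
    show G.obj.map φ (_ * _⁻¹) = _ * _⁻¹
    rw [map_mul, map_inv, ← emb_nat, ← emb_nat]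
    congr 2
    exact congrArg (fun z => toGrp (ι'.hom.app Y z)) (congrArg (fun k => k t) (e.hom.hom.naturality φ)).symm
  have hglue : ∀ X : C, ∃ z : G.obj.obj (op X),
      ∀ (V : C) (a : V ⟶ X) (t : T.P.obj.obj (op V)), G.obj.map a.op z = val (op V) t := fun X => by
    obtain ⟨S, hS, hne⟩ := htor.2 X
    obtain ⟨z, hz⟩ := sheaf_glue (uSh G) hS (fun V a ha => ofGrp (val (op V) (hne a ha).some))
      fun V W a ha b => (hvnat b.op _).trans (hval _ _ _)
    refine ⟨z, fun V a t => sheaf_ext (uSh G) (J.pullback_stable a hS) fun W b hb => ?_⟩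
    show G.obj.map b.op (G.obj.map a.op (z : G.obj.obj (op X))) = G.obj.map b.op (val (op V) t)
    rw [hvnat, gmap_map]
    exact (hz W (b ≫ a) hb).trans (hval _ _ _)
  choose z hz using hglue
  refine ⟨⟨fun X => ofGrp (z X.unop), fun {X Y} φ => ?_⟩, fun X => ?_⟩
  · obtain ⟨S, hS, hne⟩ := htor.2 Y.unop
    refine sheaf_ext (uSh G) hS fun V a ha => ?_
    show G.obj.map a.op (G.obj.map φ (z X.unop)) = G.obj.map a.op (z Y.unop)
    rw [hz _ V a (hne a ha).some]
    refine Eq.trans ?_ (hz _ V (a ≫ φ.unop) (hne a ha).some)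
    exact gmap_map G φ.unop a (z X.unop)
  · obtain ⟨S, hS, hne⟩ := htor.2 X.unop
    refine sheaf_ext Q.P hS fun V a ha => ?_
    let t := (hne a ha).some
    show Q.P.obj.map a.op (Q.smul (z X.unop) (c.1 X)) = Q.P.obj.map a.op (c'.1 X)
    rw [Q.map_smul, hz _ V a t, c.2 a.op, c'.2 a.op, ← (himg _ _).mp ⟨t, rfl⟩, ← pi_mul]
    exact (congrArg _ (inv_mul_cancel_right _ _)).trans ((himg' _ _).mp ⟨_, rfl⟩)

theorem isPushforward_iff (hu : ∀ X, Function.Injective (u.hom.app X))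
    (hQ : IsQuotientBy u π) (T : NonAbH1.Torsor F) :
    IsPushforwardAlong u T.toGSheaf (NonAbH1.GSheaf.trivial G) ↔
      ∃ c : Q.P.obj.sections, IsFibreOver u π c T.toGSheaf := by
  constructor
  · rintro ⟨f, hf⟩
    let ι : T.P ⟶ uSh G := ⟨{ app := fun X => TypeCat.ofHom fun t => ofGrp (toGrp (f.hom.app X t))⁻¹
                              naturality := fun X Y φ => ConcreteCategory.hom_ext _ _ fun t => by
                                show (toGrp (f.hom.app Y (T.P.obj.map φ t)))⁻¹ = G.obj.map φ _⁻¹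
                                exact (congrArg (·⁻¹) (emb_nat (T := T.P) f φ t)).trans (map_inv _ _).symm }⟩
    have hs : ∀ X h t, toGrp (ι.hom.app X (T.smul h t)) = toGrp (ι.hom.app X t) * (u.hom.app X h)⁻¹ :=
      fun X h t => by
      show (toGrp (f.hom.app X (T.smul h t)))⁻¹ = (toGrp (f.hom.app X t))⁻¹ * _
      rw [hf X h t]
      exact mul_inv_rev _ _
    have hinj : ∀ X, Function.Injective (ι.hom.app X) := fun X t t' h => by
      obtain ⟨a, rfl, -⟩ := T.isTorsor.1 X t t'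
      have h1 : toGrp (ι.hom.app X (T.smul a t)) = toGrp (ι.hom.app X t) := congrArg toGrp h.symm
      rw [hs, mul_eq_left, inv_eq_one] at h1
      rw [hu X (h1.trans (map_one (u.hom.app X).hom).symm), T.one_smul]
    let val : ∀ X (t : T.P.obj.obj X), Q.P.obj.obj X := fun X t => π.hom.hom.app X (ι.hom.app X t)
    have hval : ∀ X t t', val X t = val X t' := fun X t t' => by
      obtain ⟨a, rfl, -⟩ := T.isTorsor.1 X t t'
      exact (hQ.1 X (toGrp (ι.hom.app X t)) _).mpr ⟨a⁻¹, (hs X a t).trans (congrArg _ (map_inv _ _).symm)⟩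
    have hvnat : ∀ {X Y : Cᵒᵖ} (φ : X ⟶ Y) t, Q.P.obj.map φ (val X t) = val Y (T.P.obj.map φ t) :=
      fun {X Y} φ t => (pi_nat φ _).symm.trans (congrArg (fun z => π.hom.hom.app Y (ofGrp z)) (emb_nat ι φ t).symm)
    have hglue : ∀ X : C, ∃ z : Q.P.obj.obj (op X),
        ∀ (V : C) (a : V ⟶ X) (t : T.P.obj.obj (op V)), Q.P.obj.map a.op z = val (op V) t := fun X => by
      obtain ⟨S, hS, hne⟩ := T.isTorsor.2 X
      obtain ⟨z, hz⟩ := sheaf_glue Q.P hS (fun V a ha => val (op V) (hne a ha).some)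
        fun V W a ha b => (hvnat b.op _).trans (hval _ _ _)
      refine ⟨z, fun V a t => sheaf_ext Q.P (J.pullback_stable a hS) fun W b hb => ?_⟩
      rw [hvnat, map_map]
      exact (hz W (b ≫ a) hb).trans (hval _ _ _)
    choose z hz using hglue
    refine ⟨⟨fun X => z X.unop, fun {X Y} φ => ?_⟩, ι, hinj, fun X g => ⟨?_, fun hg => ?_⟩, hs⟩
    · obtain ⟨S, hS, hne⟩ := T.isTorsor.2 Y.unop
      refine sheaf_ext Q.P hS fun V a ha => ?_
      rw [hz _ V a (hne a ha).some]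
      exact (map_map Q.P φ.unop a (z X.unop)).trans (hz _ V (a ≫ φ.unop) (hne a ha).some)
    · rintro ⟨t, rfl⟩
      have := hz X.unop X.unop (𝟙 _) t
      rw [op_id, CategoryTheory.Functor.map_id] at this
      exact this.symm
    · obtain ⟨S, hS, hne⟩ := T.isTorsor.2 X.unop
      have hloc : ∀ (V : C) (a : V ⟶ X.unop), S a →
          ∃ t, toGrp (ι.hom.app (op V) t) = G.obj.map a.op g := fun V a ha => by
        let t₀ := (hne a ha).some
        obtain ⟨h, hh⟩ := (hQ.1 (op V) (toGrp (ι.hom.app (op V) t₀)) (G.obj.map a.op g)).mp (by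
          rw [pi_nat, hg]; exact (hz _ V a t₀).symm)
        exact ⟨T.smul h⁻¹ t₀, by rw [hs, hh, map_inv, inv_inv]⟩
      choose t ht using hloc
      obtain ⟨y, hy⟩ := sheaf_glue T.P hS t fun V W a ha b => hinj _ (by
        show toGrp (ι.hom.app _ (T.P.obj.map b.op (t V a ha))) = toGrp (ι.hom.app _ (t W (b ≫ a) _))
        rw [emb_nat, ht, ht]
        exact gmap_map G a b g)
      refine ⟨y, sheaf_ext (uSh G) hS fun V a ha => ?_⟩
      show G.obj.map a.op (toGrp (ι.hom.app X y)) = G.obj.map a.op g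
      rw [← emb_nat, ← ht V a ha, ← hy V a ha]
  · rintro ⟨c, ι, -, -, hs⟩
    refine ⟨⟨{ app := fun X => TypeCat.ofHom fun t => ofGrp (toGrp (ι.hom.app X t))⁻¹
               naturality := fun X Y φ => ConcreteCategory.hom_ext _ _ fun t => by
                show (toGrp (ι.hom.app Y (T.P.obj.map φ t)))⁻¹ = G.obj.map φ _⁻¹
                rw [map_inv, emb_nat] }⟩, fun X g p => ?_⟩
    show (toGrp (ι.hom.app X (T.smul g p)))⁻¹ = u.hom.app X g * (toGrp (ι.hom.app X p))⁻¹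
    rw [hs, mul_inv_rev, inv_inv]

theorem cl_eq_one_iff_iso {F : Sheaf J GrpCat.{w}} (T : NonAbH1.Torsor F) :
    T.cl = 1 ↔ Nonempty (T.toGSheaf ≅ NonAbH1.GSheaf.trivial F) := by
  have he : _root_.Equivalence fun P Q : NonAbH1.Torsor F => Nonempty (P.toGSheaf ≅ Q.toGSheaf) :=
    ⟨fun P => ⟨Iso.refl _⟩, fun ⟨e⟩ => ⟨e.symm⟩, fun ⟨e⟩ ⟨e'⟩ => ⟨e ≪≫ e'⟩⟩
  exact he.quot_mk_eq_iff T (NonAbH1.trivialTorsor F)

theorem cl_eq_one_iff (hQ : IsQuotientBy u π) {c : Q.P.obj.sections}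
    (T : NonAbH1.Torsor F) (hT : IsFibreOver u π c T.toGSheaf) :
    T.cl = 1 ↔ ∃ g : (uSh G).obj.sections, ∀ X, π.hom.hom.app X (g.1 X) = c.1 X := by
  rw [cl_eq_one_iff_iso]
  obtain ⟨ι, hinj, himg, hs⟩ := hT
  constructor
  · rintro ⟨e⟩
    refine ⟨⟨fun X => ι.hom.app X (e.inv.hom.hom.app X (ofGrp (1 : F.obj.obj X))), fun {X Y} φ => ?_⟩,
      fun X => (himg X _).mp ⟨_, rfl⟩⟩
    refine (emb_nat (T := T.P) ι φ (e.inv.hom.hom.app X (ofGrp (1 : F.obj.obj X)))).symm.trans ?_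
    refine congrArg (ι.hom.app Y) ((congrArg (fun k => k (ofGrp (1 : F.obj.obj X))) (e.inv.hom.hom.naturality φ)).symm.trans ?_)
    exact congrArg (e.inv.hom.hom.app Y) (map_one (F.obj.map φ).hom)
  · rintro ⟨g, hg⟩
    choose t ht using fun X => (himg X (toGrp (g.1 X))).mpr (hg X)
    let f : NonAbH1.GSheaf.trivial F ⟶ T.toGSheaf :=
      ⟨⟨{ app := fun X => TypeCat.ofHom fun a => T.smul (toGrp a) (t X)
          naturality := fun X Y φ => ConcreteCategory.hom_ext _ _ fun a => by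
            show T.smul (F.obj.map φ (toGrp a)) (t Y) = T.P.obj.map φ (T.smul (toGrp a) (t X))
            rw [T.map_smul]
            refine congrArg _ (hinj Y ?_)
            show toGrp (ι.hom.app Y (t Y)) = toGrp (ι.hom.app Y (T.P.obj.map φ (t X)))
            rw [emb_nat, ht, ht]
            exact (g.2 φ).symm }⟩,
        fun {X} a p => T.mul_smul a (toGrp p) (t X)⟩
    have := isIso_hom (NonAbH1.GSheaf.isTorsor_trivial F) T.isTorsor.1 f
    exact ⟨(asIso f).symm⟩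

end GrothLib.GSheaf21
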